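import Groth.Agent.Pic13.H138.Slice
import Groth.Agent.Fdesc.GeomAlgClosed

/-!
# Algebraic equivalence of classes of invertible modules (`k` algebraically closed)

* `AlgEq k X a b` : `a, b : Pic X` are fibres of one class on `X ×_k T`, `T` connected of finite type.
* `isAlgEquivZero_iff : IsAlgEquivZero k X L ↔ AlgEq k X (mk L hL) 1`, and `IsAlgEquivZero` implies invertible.
* `alg0 k X : Subgroup (Pic X)`, `mem_alg0_iff`, `algEq_iff_div_mem`, `tau0 k X : Subgroup (Pic X)`,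
  `isTauEquivZero_iff`, `pull_mem_alg0`, `pull_mem_tau0`.
-/

set_option autoImplicit false
universe u

open CategoryTheory CategoryTheory.Limits AlgebraicGeometry

namespace Groth.Agent.Pic13.H138.AlgEquiv

open Groth.Agent.Grpsch.PicGrp Groth.Agent.Pic13.H138.Slice Groth.Agent.Fdesc.LocGen

variable (k : Type u) [Field k]

local notation "Sk" => Spec (CommRingCat.of k)

variable (X : Scheme.{u}) [X.Over (Spec (CommRingCat.of k))]

/-- Algebraic equivalence of classes of invertible modules. -/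
def AlgEq (a b : Pic X) : Prop :=
  ∃ (T : Scheme.{u}) (q : T ⟶ Sk), ConnectedSpace T ∧ LocallyOfFiniteType q ∧ QuasiCompact q ∧
    ∃ (c : Pic (Pic13.prodK k X q)) (t t₀ : Sk ⟶ T) (ht : t ≫ q = 𝟙 _) (ht₀ : t₀ ≫ q = 𝟙 _),
      fibCl k X q t ht c = a ∧ fibCl k X q t₀ ht₀ c = b

variable {k X}

theorem isInvertible_of_iso {L M : X.Modules} (e : L ≅ M) (hL : PicF.IsInvertible L) :
    PicF.IsInvertible M := by
  intro x
  obtain ⟨U, hx, ⟨i⟩⟩ := hL x
  exact ⟨U, hx, ⟨((Scheme.Modules.restrictFunctor U.ι).mapIso e).symm ≪≫ i⟩⟩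

theorem isInvertible_of_isAlgEquivZero {L : X.Modules} (h : Pic13.IsAlgEquivZero k X L) :
    PicF.IsInvertible L := by
  obtain ⟨T, q, -, -, -, M, hM, t, t₀, ht, ht₀, ⟨e⟩, -⟩ := h
  exact isInvertible_of_iso e (isInvertible_pullback _ hM)

theorem isAlgEquivZero_iff {L : X.Modules} (hL : PicF.IsInvertible L) :
    Pic13.IsAlgEquivZero k X L ↔ AlgEq k X (mk L hL) 1 := by
  constructor
  · rintro ⟨T, q, h1, h2, h3, M, hM, t, t₀, ht, ht₀, ⟨e⟩, ⟨e₀⟩⟩
    exact ⟨T, q, h1, h2, h3, mk M hM, t, t₀, ht, ht₀, mk_congr e, mk_congr e₀⟩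
  · rintro ⟨T, q, h1, h2, h3, c, t, t₀, ht, ht₀, e, e₀⟩
    obtain ⟨M, hM, rfl⟩ := exists_mk c
    exact ⟨T, q, h1, h2, h3, M, hM, t, t₀, ht, ht₀, (mk_eq_iff _ _).mp e, (mk_eq_iff _ _).mp e₀⟩

theorem AlgEq.refl (a : Pic X) : AlgEq k X a a := by
  refine ⟨Sk, 𝟙 _, ?_, inferInstance, inferInstance, pull (pullback.fst _ _) a, 𝟙 _, 𝟙 _,
    Category.comp_id _, Category.comp_id _, fibCl_pull_fst _ _ _ _ _ _, fibCl_pull_fst _ _ _ _ _ _⟩
  exact (inferInstance : ConnectedSpace (PrimeSpectrum k))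

theorem AlgEq.symm {a b : Pic X} (h : AlgEq k X a b) : AlgEq k X b a := by
  obtain ⟨T, q, h1, h2, h3, c, t, t₀, ht, ht₀, e, e₀⟩ := h
  exact ⟨T, q, h1, h2, h3, c, t₀, t, ht₀, ht, e₀, e⟩

theorem AlgEq.mul_left {a b : Pic X} (h : AlgEq k X a b) (d : Pic X) :
    AlgEq k X (d * a) (d * b) := by
  obtain ⟨T, q, h1, h2, h3, c, t, t₀, ht, ht₀, e, e₀⟩ := h
  refine ⟨T, q, h1, h2, h3, pull (pullback.fst _ _) d * c, t, t₀, ht, ht₀, ?_, ?_⟩
  · rw [map_mul, fibCl_pull_fst, e]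
  · rw [map_mul, fibCl_pull_fst, e₀]

theorem AlgEq.inv {a b : Pic X} (h : AlgEq k X a b) : AlgEq k X a⁻¹ b⁻¹ := by
  obtain ⟨T, q, h1, h2, h3, c, t, t₀, ht, ht₀, e, e₀⟩ := h
  refine ⟨T, q, h1, h2, h3, c⁻¹, t, t₀, ht, ht₀, ?_, ?_⟩
  · rw [map_inv, e]
  · rw [map_inv, e₀]

/-- A product of connected schemes of finite type over an algebraically closed field is connected. -/
theorem connectedSpace_prod [IsAlgClosed k] {T T' : Scheme.{u}} (q : T ⟶ Sk) (q' : T' ⟶ Sk)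
    [ConnectedSpace T] [ConnectedSpace T'] : ConnectedSpace ↥(pullback q q') := by
  have : GeometricallyConnected q := Fdesc.GeomAlgClosed.geometricallyConnected_of_connectedSpace q
  infer_instance

theorem AlgEq.mul [IsAlgClosed k] {a b a' b' : Pic X} (h : AlgEq k X a b) (h' : AlgEq k X a' b') :
    AlgEq k X (a * a') (b * b') := by
  obtain ⟨T, q, h1, h2, h3, c, t, t₀, ht, ht₀, e, e₀⟩ := h
  obtain ⟨T', q', h1', h2', h3', c', t', t₀', ht', ht₀', e', e₀'⟩ := h'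
  have hp : pullback.snd q q' ≫ q' = pullback.fst q q' ≫ q := pullback.condition.symm
  let Q : pullback q q' ⟶ Sk := pullback.fst q q' ≫ q
  let s : Sk ⟶ pullback q q' := pullback.lift t t' (by rw [ht, ht'])
  let s₀ : Sk ⟶ pullback q q' := pullback.lift t₀ t₀' (by rw [ht₀, ht₀'])
  have hs : s ≫ Q = 𝟙 _ := by rw [pullback.lift_fst_assoc, ht]
  have hs₀ : s₀ ≫ Q = 𝟙 _ := by rw [pullback.lift_fst_assoc, ht₀]
  have hs1 : s ≫ pullback.fst q q' = t := pullback.lift_fst _ _ _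
  have hs2 : s ≫ pullback.snd q q' = t' := pullback.lift_snd _ _ _
  have hs1₀ : s₀ ≫ pullback.fst q q' = t₀ := pullback.lift_fst _ _ _
  have hs2₀ : s₀ ≫ pullback.snd q q' = t₀' := pullback.lift_snd _ _ _
  refine ⟨pullback q q', Q, connectedSpace_prod q q', inferInstance, inferInstance,
    pull (bcT k X q Q (pullback.fst q q') rfl) c * pull (bcT k X q' Q (pullback.snd q q') hp) c',
    s, s₀, hs, hs₀, ?_, ?_⟩
  · rw [map_mul, fibCl_pull_bcT, fibCl_pull_bcT, fibCl_congr k X q _ hs1, fibCl_congr k X q' _ hs2,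
      e, e']
  · rw [map_mul, fibCl_pull_bcT, fibCl_pull_bcT, fibCl_congr k X q _ hs1₀,
      fibCl_congr k X q' _ hs2₀, e₀, e₀']

theorem AlgEq.pull {X' : Scheme.{u}} [X'.Over (Spec (CommRingCat.of k))] (g : X' ⟶ X)
    (hg : g ≫ (X ↘ Sk) = X' ↘ Sk) {a b : Pic X} (h : AlgEq k X a b) :
    AlgEq k X' (Grpsch.PicGrp.pull g a) (Grpsch.PicGrp.pull g b) := by
  obtain ⟨T, q, h1, h2, h3, c, t, t₀, ht, ht₀, e, e₀⟩ := h
  refine ⟨T, q, h1, h2, h3, Grpsch.PicGrp.pull (prodMap k g hg q) c, t, t₀, ht, ht₀, ?_, ?_⟩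
  · rw [fibCl_pull_prodMap, e]
  · rw [fibCl_pull_prodMap, e₀]

variable (k X) in
/-- Classes algebraically equivalent to zero. -/
def alg0 [IsAlgClosed k] : Subgroup (Pic X) where
  carrier := {a | AlgEq k X a 1}
  one_mem' := AlgEq.refl 1
  mul_mem' := fun ha hb => by
    have := AlgEq.mul ha hb
    rwa [one_mul] at this
  inv_mem' := fun ha => by
    have := AlgEq.inv ha
    rwa [inv_one] at this

variable [IsAlgClosed k]

theorem mem_alg0_iff {a : Pic X} : a ∈ alg0 k X ↔ AlgEq k X a 1 := Iff.rfl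

theorem isAlgEquivZero_iff_mem {L : X.Modules} (hL : PicF.IsInvertible L) :
    Pic13.IsAlgEquivZero k X L ↔ mk L hL ∈ alg0 k X := isAlgEquivZero_iff hL

theorem algEq_iff_mem {a b : Pic X} : AlgEq k X a b ↔ a * b⁻¹ ∈ alg0 k X := by
  rw [mem_alg0_iff]
  constructor
  · intro h
    have := h.mul_left b⁻¹
    rwa [inv_mul_cancel, mul_comm] at this
  · intro h
    have := h.mul_left b
    rwa [mul_one, mul_comm a, mul_inv_cancel_left] at this

theorem AlgEq.trans {a b c : Pic X} (h : AlgEq k X a b) (h' : AlgEq k X b c) : AlgEq k X a c := by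
  rw [algEq_iff_mem] at *
  have := mul_mem h h'
  rwa [mul_assoc, inv_mul_cancel_left] at this

theorem pull_mem_alg0 {X' : Scheme.{u}} [X'.Over (Spec (CommRingCat.of k))] (g : X' ⟶ X)
    (hg : g ≫ (X ↘ Sk) = X' ↘ Sk) {a : Pic X} (ha : a ∈ alg0 k X) :
    Grpsch.PicGrp.pull g a ∈ alg0 k X' := by
  rw [mem_alg0_iff] at *
  have := ha.pull g hg
  rwa [map_one] at this

variable (k X) in
/-- Classes τ-equivalent to zero. -/
def tau0 : Subgroup (Pic X) where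
  carrier := {a | ∃ n : ℕ, 0 < n ∧ a ^ n ∈ alg0 k X}
  one_mem' := ⟨1, one_pos, by rw [one_pow]; exact one_mem _⟩
  mul_mem' := by
    rintro a b ⟨n, hn, ha⟩ ⟨m, hm, hb⟩
    refine ⟨n * m, Nat.mul_pos hn hm, ?_⟩
    rw [mul_pow, pow_mul, mul_comm n m, pow_mul]
    exact mul_mem (pow_mem ha _) (pow_mem hb _)
  inv_mem' := by
    rintro a ⟨n, hn, ha⟩
    refine ⟨n, hn, ?_⟩
    rw [inv_pow]
    exact inv_mem ha

theorem mem_tau0_iff {a : Pic X} : a ∈ tau0 k X ↔ ∃ n : ℕ, 0 < n ∧ a ^ n ∈ alg0 k X := Iff.rfl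

theorem alg0_le_tau0 : alg0 k X ≤ tau0 k X := fun a ha => ⟨1, one_pos, by rwa [pow_one]⟩

theorem isTauEquivZero_iff_mem {L : X.Modules} (hL : PicF.IsInvertible L) :
    Pic13.IsTauEquivZero k X L ↔ mk L hL ∈ tau0 k X := by
  rw [mem_tau0_iff]
  constructor
  · rintro ⟨n, hn, h⟩
    refine ⟨n, hn, ?_⟩
    rwa [← mk_tensorPow, ← isAlgEquivZero_iff_mem]
  · rintro ⟨n, hn, h⟩
    refine ⟨n, hn, ?_⟩
    rwa [← mk_tensorPow, ← isAlgEquivZero_iff_mem] at h

theorem pull_mem_tau0 {X' : Scheme.{u}} [X'.Over (Spec (CommRingCat.of k))] (g : X' ⟶ X)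
    (hg : g ≫ (X ↘ Sk) = X' ↘ Sk) {a : Pic X} (ha : a ∈ tau0 k X) :
    Grpsch.PicGrp.pull g a ∈ tau0 k X' := by
  obtain ⟨n, hn, h⟩ := ha
  refine ⟨n, hn, ?_⟩
  rw [← map_pow]
  exact pull_mem_alg0 g hg h

/-- Criterion: if two different powers are algebraically equivalent then the class is τ-equivalent
to zero. -/
theorem mem_tau0_of_zpow {a : Pic X} {m n : ℤ} (hmn : m ≠ n) (h : AlgEq k X (a ^ m) (a ^ n)) :
    a ∈ tau0 k X := by
  rw [algEq_iff_mem, ← zpow_neg, ← zpow_add] at h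
  have hne : m + -n ≠ 0 := by omega
  refine ⟨(m + -n).natAbs, Int.natAbs_pos.mpr hne, ?_⟩
  rcases Int.natAbs_eq (m + -n) with h1 | h1
  · rw [← zpow_natCast, ← h1]; exact h
  · have := inv_mem h
    rw [← zpow_neg] at this
    rw [← zpow_natCast]
    rwa [show -(m + -n) = ((m + -n).natAbs : ℤ) by omega] at this

theorem mem_tau0_of_pow {a : Pic X} {m n : ℕ} (hmn : m ≠ n) (h : AlgEq k X (a ^ m) (a ^ n)) :
    a ∈ tau0 k X := by
  refine mem_tau0_of_zpow (m := m) (n := n) (by exact_mod_cast hmn) ?_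
  simpa only [zpow_natCast] using h

theorem mem_tau0_of_pow_mem {a : Pic X} {n : ℕ} (hn : 0 < n) (h : a ^ n ∈ tau0 k X) :
    a ∈ tau0 k X := by
  obtain ⟨m, hm, h⟩ := h
  exact ⟨n * m, Nat.mul_pos hn hm, by rwa [pow_mul]⟩

end Groth.Agent.Pic13.H138.AlgEquiv
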