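import Groth.Agent.Pic13.H138.Slice
import Groth.Agent.CalgB.AmpleRel
import Groth.Agent.CohqB.LocalQC

/-!
# Gluing modules on two disjoint open subschemes

`exists_glue`: for open immersions `j₁, j₂` to `Y` with disjoint images and modules `M₁, M₂` there is a
module `M` on `Y` (namely `j₁_* M₁ ⊞ j₂_* M₂`) with `j₁^* M ≅ M₁`, `j₂^* M ≅ M₂`.
If the images cover `Y` then `M` is invertible (coherent) when `M₁` and `M₂` are.
-/

set_option autoImplicit false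
universe u

open CategoryTheory CategoryTheory.Limits AlgebraicGeometry TopologicalSpace

namespace Groth.Agent.Pic13.H138.Glue2

open Groth.Agent.CohqB.LocalQC Groth.Agent.Fdesc.LocGen Groth.Agent.Flat2H.FamExt Groth.Agent.Flat2H.FamDict

variable {Y Y₁ Y₂ : Scheme.{u}} (j₁ : Y₁ ⟶ Y) (j₂ : Y₂ ⟶ Y) [IsOpenImmersion j₁] [IsOpenImmersion j₂]

/-- Sections over the empty open vanish. -/
theorem subsingleton_bot (M : Y.Modules) {U : Y.Opens} (hU : U = ⊥) : Subsingleton Γ(M, U) :=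
  subsingleton_sections U (by subst hU; rintro x ⟨⟩)

omit [IsOpenImmersion j₂] in
/-- `j₁^* j₂_* M = 0` for disjoint images. -/
theorem isZero_restrict_push (hd : Disjoint (Set.range j₁.base) (Set.range j₂.base)) (M : Y₂.Modules) :
    IsZero (((Scheme.Modules.pushforward j₂).obj M).restrict j₁) := by
  apply isZero_of_subsingleton_sections
  intro U
  change Subsingleton Γ(M, j₂ ⁻¹ᵁ (j₁ ''ᵁ U))
  apply subsingleton_bot
  ext x
  simp only [Opens.coe_bot, Set.mem_empty_iff_false, iff_false]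
  rintro ⟨y, -, hy⟩
  exact Set.disjoint_left.mp hd ⟨y, rfl⟩ ⟨x, hy.symm⟩

/-- `j^* j_* M ≅ M`. -/
theorem nonempty_restrict_push (M : Y₁.Modules) :
    Nonempty (((Scheme.Modules.pushforward j₁).obj M).restrict j₁ ≅ M) :=
  ⟨(Scheme.Modules.restrictFunctorAdjCounitIso j₁).app M⟩

/-- The glued module. -/
noncomputable def glue (M₁ : Y₁.Modules) (M₂ : Y₂.Modules) : Y.Modules :=
  (Scheme.Modules.pushforward j₁).obj M₁ ⊞ (Scheme.Modules.pushforward j₂).obj M₂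

theorem nonempty_biprod_of_isZero {C : Type*} [Category C] [Preadditive C] [HasBinaryBiproducts C]
    {A B : C} (h : IsZero B) : Nonempty (A ⊞ B ≅ A) :=
  ⟨{ hom := biprod.fst
     inv := biprod.inl
     hom_inv_id := by
       apply biprod.hom_ext'
       · simp
       · exact h.eq_of_src _ _
     inv_hom_id := by simp }⟩

omit [IsOpenImmersion j₂] in
theorem glue_left (hd : Disjoint (Set.range j₁.base) (Set.range j₂.base)) (M₁ : Y₁.Modules)
    (M₂ : Y₂.Modules) : Nonempty ((glue j₁ j₂ M₁ M₂).restrict j₁ ≅ M₁) := by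
  obtain ⟨e⟩ := nonempty_restrict_push j₁ M₁
  have h0 := isZero_restrict_push j₁ j₂ hd M₂
  have : (Scheme.Modules.restrictFunctor j₁).Additive := ⟨rfl⟩
  have : PreservesBinaryBiproducts (Scheme.Modules.restrictFunctor j₁) :=
    preservesBinaryBiproducts_of_preservesBiproducts _
  obtain ⟨e'⟩ := nonempty_biprod_of_isZero (A := ((Scheme.Modules.pushforward j₁).obj M₁).restrict j₁) h0
  exact ⟨(Scheme.Modules.restrictFunctor j₁).mapBiprod _ _ ≪≫ e' ≪≫ e⟩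

theorem glue_right (hd : Disjoint (Set.range j₁.base) (Set.range j₂.base)) (M₁ : Y₁.Modules)
    (M₂ : Y₂.Modules) : Nonempty ((glue j₁ j₂ M₁ M₂).restrict j₂ ≅ M₂) := by
  obtain ⟨e⟩ := glue_left j₂ j₁ hd.symm M₂ M₁
  exact ⟨(Scheme.Modules.restrictFunctor j₂).mapIso (biprod.braiding _ _) ≪≫ e⟩

theorem exists_glue (hd : Disjoint (Set.range j₁.base) (Set.range j₂.base)) (M₁ : Y₁.Modules)
    (M₂ : Y₂.Modules) : ∃ M : Y.Modules, Nonempty ((Scheme.Modules.pullback j₁).obj M ≅ M₁) ∧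
      Nonempty ((Scheme.Modules.pullback j₂).obj M ≅ M₂) := by
  obtain ⟨e₁⟩ := glue_left j₁ j₂ hd M₁ M₂
  obtain ⟨e₂⟩ := glue_right j₁ j₂ hd M₁ M₂
  exact ⟨glue j₁ j₂ M₁ M₂, ⟨((Scheme.Modules.restrictFunctorIsoPullback j₁).app _).symm ≪≫ e₁⟩,
    ⟨((Scheme.Modules.restrictFunctorIsoPullback j₂).app _).symm ≪≫ e₂⟩⟩

/-- An isomorphism of restrictions along an open immersion `j : U ⟶ Y` whose image contains `y` shows
invertibility at `y`. -/
theorem isInvertible_of_pullbacks {M : Y.Modules}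
    (hc : ∀ y : Y, y ∈ Set.range j₁.base ∨ y ∈ Set.range j₂.base)
    (h₁ : PicF.IsInvertible (M.restrict j₁)) (h₂ : PicF.IsInvertible (M.restrict j₂)) :
    PicF.IsInvertible M := by
  have key : ∀ {W : Scheme.{u}} (j : W ⟶ Y) [IsOpenImmersion j], PicF.IsInvertible (M.restrict j) →
      ∀ y ∈ Set.range j.base, ∃ (U : Y.Opens) (e : Γ(M, U)), y ∈ U ∧ IsGen e := by
    rintro W j _ h y ⟨w, rfl⟩
    obtain ⟨V, e, hV, he⟩ := (isInvertible_iff _).1 h w
    obtain ⟨m, rfl⟩ := (toRestrict (M := M) j (U := V)).surjective e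
    exact ⟨j ''ᵁ V, m, ⟨w, hV, rfl⟩, (isGen_toRestrict_iff j m).1 he⟩
  rw [isInvertible_iff]
  intro y
  rcases hc y with h | h
  · exact key j₁ h₁ y h
  · exact key j₂ h₂ y h

theorem isInvertible_iso {M N : Y.Modules} (e : M ≅ N) (h : PicF.IsInvertible M) :
    PicF.IsInvertible N := by
  intro x
  obtain ⟨U, hx, ⟨f⟩⟩ := h x
  exact ⟨U, hx, ⟨((Scheme.Modules.restrictFunctor U.ι).mapIso e).symm ≪≫ f⟩⟩

/-- Gluing of invertible modules. -/
theorem exists_glue_invertible (hd : Disjoint (Set.range j₁.base) (Set.range j₂.base))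
    (hc : ∀ y : Y, y ∈ Set.range j₁.base ∨ y ∈ Set.range j₂.base)
    {M₁ : Y₁.Modules} {M₂ : Y₂.Modules} (h₁ : PicF.IsInvertible M₁) (h₂ : PicF.IsInvertible M₂) :
    ∃ M : Y.Modules, PicF.IsInvertible M ∧ Nonempty ((Scheme.Modules.pullback j₁).obj M ≅ M₁) ∧
      Nonempty ((Scheme.Modules.pullback j₂).obj M ≅ M₂) := by
  obtain ⟨e₁⟩ := glue_left j₁ j₂ hd M₁ M₂
  obtain ⟨e₂⟩ := glue_right j₁ j₂ hd M₁ M₂
  refine ⟨glue j₁ j₂ M₁ M₂, ?_, ⟨((Scheme.Modules.restrictFunctorIsoPullback j₁).app _).symm ≪≫ e₁⟩,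
    ⟨((Scheme.Modules.restrictFunctorIsoPullback j₂).app _).symm ≪≫ e₂⟩⟩
  exact isInvertible_of_pullbacks j₁ j₂ hc (isInvertible_iso e₁.symm h₁)
    (isInvertible_iso e₂.symm h₂)

open Groth.Agent.Grpsch.PicGrp in
/-- Gluing of classes. -/
theorem exists_glue_class (hd : Disjoint (Set.range j₁.base) (Set.range j₂.base))
    (hc : ∀ y : Y, y ∈ Set.range j₁.base ∨ y ∈ Set.range j₂.base) (c₁ : Pic Y₁) (c₂ : Pic Y₂) :
    ∃ c : Pic Y, pull j₁ c = c₁ ∧ pull j₂ c = c₂ := by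
  obtain ⟨M₁, h₁, rfl⟩ := exists_mk c₁
  obtain ⟨M₂, h₂, rfl⟩ := exists_mk c₂
  obtain ⟨M, hM, e₁, e₂⟩ := exists_glue_invertible j₁ j₂ hd hc h₁ h₂
  exact ⟨mk M hM, (mk_eq_iff _ _).2 e₁, (mk_eq_iff _ _).2 e₂⟩

theorem isCoh_of_pullbacks {M : Y.Modules}
    (hc : ∀ y : Y, y ∈ Set.range j₁.base ∨ y ∈ Set.range j₂.base)
    (h₁ : Coh.IsCoh (M.restrict j₁)) (h₂ : Coh.IsCoh (M.restrict j₂)) : Coh.IsCoh M := by
  have key : ∀ {W : Scheme.{u}} (j : W ⟶ Y) [IsOpenImmersion j], Coh.IsCoh (M.restrict j) →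
      Coh.IsCoh (M.restrict j.opensRange.ι) := by
    intro W j _ h
    have h' := isCoh_restrict j.isoOpensRange.inv h
    refine isCoh_of_iso ?_ h'
    exact (Scheme.Modules.restrictFunctorComp j.isoOpensRange.inv j).symm.app M ≪≫
      (Scheme.Modules.restrictFunctorCongr (by simp)).app M
  refine isCoh_of_cover (ι := Bool) (fun b => cond b j₁.opensRange j₂.opensRange) ?_ M ?_
  · rw [eq_top_iff]
    intro y _
    rw [Opens.mem_iSup]
    rcases hc y with h | h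
    · exact ⟨true, h⟩
    · exact ⟨false, h⟩
  · rintro (_ | _)
    · exact key j₂ h₂
    · exact key j₁ h₁

/-- Gluing of coherent modules. -/
theorem exists_glue_coh (hd : Disjoint (Set.range j₁.base) (Set.range j₂.base))
    (hc : ∀ y : Y, y ∈ Set.range j₁.base ∨ y ∈ Set.range j₂.base)
    {M₁ : Y₁.Modules} {M₂ : Y₂.Modules} (h₁ : Coh.IsCoh M₁) (h₂ : Coh.IsCoh M₂) :
    ∃ M : Y.Modules, Coh.IsCoh M ∧ Nonempty ((Scheme.Modules.pullback j₁).obj M ≅ M₁) ∧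
      Nonempty ((Scheme.Modules.pullback j₂).obj M ≅ M₂) := by
  obtain ⟨e₁⟩ := glue_left j₁ j₂ hd M₁ M₂
  obtain ⟨e₂⟩ := glue_right j₁ j₂ hd M₁ M₂
  refine ⟨glue j₁ j₂ M₁ M₂, ?_, ⟨((Scheme.Modules.restrictFunctorIsoPullback j₁).app _).symm ≪≫ e₁⟩,
    ⟨((Scheme.Modules.restrictFunctorIsoPullback j₂).app _).symm ≪≫ e₂⟩⟩
  exact isCoh_of_pullbacks j₁ j₂ hc (isCoh_of_iso e₁.symm h₁) (isCoh_of_iso e₂.symm h₂)

end Groth.Agent.Pic13.H138.Glue2
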