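import Groth.Agent.Pic13.H138.AlgEquiv
import Groth.Agent.Pic13.H138.Glue2
import Mathlib.AlgebraicGeometry.Limits
import Mathlib.AlgebraicGeometry.Noetherian

/-!
# Bounded sets of classes of invertible modules

`BddPic k X A` for `A : Set (Pic X)`: there are `T` of finite type over `k` and a class `c` on `X ×_k T`
such that every `a ∈ A` is the fibre of `c` at a `k`-point of `T`.

Closure properties: `BddPic.mono`, `empty`, `singleton`, `union`, `finite`, `biUnion`, `mul`, `inv`, `pow`,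
`smul`, `pull`; `BddPic.exists_finite` (k algebraically closed): finitely many classes modulo algebraic
equivalence; `mem_tau0_of_bdd`: if the powers of `a` form a bounded family then `a ∈ tau0`.
-/

set_option autoImplicit false
set_option linter.dupNamespace false
universe u

open CategoryTheory CategoryTheory.Limits AlgebraicGeometry

namespace Groth.Agent.Pic13.H138.BddPic

open Groth.Agent.Grpsch.PicGrp Groth.Agent.Pic13.H138.Slice Groth.Agent.Pic13.H138.AlgEquiv

variable (k : Type u) [Field k]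

local notation "Sk" => Spec (CommRingCat.of k)

variable (X : Scheme.{u}) [X.Over (Spec (CommRingCat.of k))]

/-- Bounded sets of classes of invertible modules. -/
def BddPic (A : Set (Pic X)) : Prop :=
  ∃ (T : Scheme.{u}) (q : T ⟶ Sk), LocallyOfFiniteType q ∧ QuasiCompact q ∧
    ∃ c : Pic (Pic13.prodK k X q), ∀ a ∈ A, ∃ (t : Sk ⟶ T) (ht : t ≫ q = 𝟙 _), fibCl k X q t ht c = a

section Geometry

/-- Open immersions `X ×_k T₁ ⟶ X ×_k T` from open immersions `T₁ ⟶ T`. -/
theorem isOpenImmersion_bcT {T T' : Scheme.{u}} (q : T ⟶ Sk) (q' : T' ⟶ Sk) (h : T' ⟶ T)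
    (hh : h ≫ q = q') [IsOpenImmersion h] : IsOpenImmersion (bcT k X q q' h hh) :=
  MorphismProperty.of_isPullback (P := @IsOpenImmersion) (isPullback_bcT k X q q' h hh).flip
    inferInstance

theorem range_bcT {T T' : Scheme.{u}} (q : T ⟶ Sk) (q' : T' ⟶ Sk) (h : T' ⟶ T) (hh : h ≫ q = q') :
    Set.range (bcT k X q q' h hh).base = (pullback.snd (X ↘ Sk) q).base ⁻¹' Set.range h.base := by
  ext z
  constructor
  · rintro ⟨w, rfl⟩
    refine ⟨(pullback.snd (X ↘ Sk) q').base w, ?_⟩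
    rw [← Scheme.Hom.comp_apply, ← Scheme.Hom.comp_apply, bcT_snd]
  · rintro ⟨t, ht⟩
    obtain ⟨w, hw, -⟩ := Scheme.exists_preimage_of_isPullback (isPullback_bcT k X q q' h hh) z t ht.symm
    exact ⟨w, hw⟩

end Geometry

variable {k X}

theorem BddPic.mono {A B : Set (Pic X)} (h : BddPic k X B) (hAB : A ⊆ B) : BddPic k X A := by
  obtain ⟨T, q, h1, h2, c, hc⟩ := h
  exact ⟨T, q, h1, h2, c, fun a ha => hc a (hAB ha)⟩

theorem BddPic.singleton (a : Pic X) : BddPic k X {a} :=
  ⟨Sk, 𝟙 _, inferInstance, inferInstance, pull (pullback.fst _ _) a, fun b hb => by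
    rw [Set.mem_singleton_iff] at hb
    subst hb
    exact ⟨𝟙 _, Category.comp_id _, fibCl_pull_fst _ _ _ _ _ _⟩⟩

theorem BddPic.empty : BddPic k X (∅ : Set (Pic X)) :=
  (BddPic.singleton (1 : Pic X)).mono (Set.empty_subset _)

theorem BddPic.inv {A : Set (Pic X)} (h : BddPic k X A) : BddPic k X ((fun a => a⁻¹) '' A) := by
  obtain ⟨T, q, h1, h2, c, hc⟩ := h
  refine ⟨T, q, h1, h2, c⁻¹, ?_⟩
  rintro _ ⟨a, ha, rfl⟩
  obtain ⟨t, ht, rfl⟩ := hc a ha
  exact ⟨t, ht, map_inv _ _⟩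

theorem BddPic.pow {A : Set (Pic X)} (h : BddPic k X A) (n : ℕ) :
    BddPic k X ((fun a => a ^ n) '' A) := by
  obtain ⟨T, q, h1, h2, c, hc⟩ := h
  refine ⟨T, q, h1, h2, c ^ n, ?_⟩
  rintro _ ⟨a, ha, rfl⟩
  obtain ⟨t, ht, rfl⟩ := hc a ha
  exact ⟨t, ht, map_pow _ _ _⟩

theorem BddPic.pull {X' : Scheme.{u}} [X'.Over (Spec (CommRingCat.of k))] (g : X' ⟶ X)
    (hg : g ≫ (X ↘ Sk) = X' ↘ Sk) {A : Set (Pic X)} (h : BddPic k X A) :
    BddPic k X' (Grpsch.PicGrp.pull g '' A) := by
  obtain ⟨T, q, h1, h2, c, hc⟩ := h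
  refine ⟨T, q, h1, h2, Grpsch.PicGrp.pull (prodMap k g hg q) c, ?_⟩
  rintro _ ⟨a, ha, rfl⟩
  obtain ⟨t, ht, rfl⟩ := hc a ha
  exact ⟨t, ht, fibCl_pull_prodMap k X g hg q t ht c⟩

theorem BddPic.mul {A B : Set (Pic X)} (h : BddPic k X A) (h' : BddPic k X B) :
    BddPic k X (Set.image2 (fun a b => a * b) A B) := by
  obtain ⟨T, q, h1, h2, c, hc⟩ := h
  obtain ⟨T', q', h1', h2', c', hc'⟩ := h'
  have hp : pullback.snd q q' ≫ q' = pullback.fst q q' ≫ q := pullback.condition.symm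
  let Q : pullback q q' ⟶ Sk := pullback.fst q q' ≫ q
  refine ⟨pullback q q', Q, inferInstance, inferInstance,
    Grpsch.PicGrp.pull (bcT k X q Q (pullback.fst q q') rfl) c *
      Grpsch.PicGrp.pull (bcT k X q' Q (pullback.snd q q') hp) c', ?_⟩
  rintro _ ⟨a, ha, b, hb, rfl⟩
  obtain ⟨t, ht, e⟩ := hc a ha
  obtain ⟨t', ht', e'⟩ := hc' b hb
  let s : Sk ⟶ pullback q q' := pullback.lift t t' (by rw [ht, ht'])
  have hs : s ≫ Q = 𝟙 _ := by rw [pullback.lift_fst_assoc, ht]
  have hs1 : s ≫ pullback.fst q q' = t := pullback.lift_fst _ _ _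
  have hs2 : s ≫ pullback.snd q q' = t' := pullback.lift_snd _ _ _
  refine ⟨s, hs, ?_⟩
  rw [map_mul, fibCl_pull_bcT, fibCl_pull_bcT, fibCl_congr k X q _ hs1, fibCl_congr k X q' _ hs2,
    e, e']

theorem BddPic.smul {A : Set (Pic X)} (h : BddPic k X A) (b : Pic X) :
    BddPic k X ((fun a => b * a) '' A) := by
  refine ((BddPic.singleton b).mul h).mono ?_
  rintro _ ⟨a, ha, rfl⟩
  exact ⟨b, rfl, a, ha, rfl⟩

theorem BddPic.union {A B : Set (Pic X)} (h : BddPic k X A) (h' : BddPic k X B) :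
    BddPic k X (A ∪ B) := by
  obtain ⟨T, q, h1, h2, c, hc⟩ := h
  obtain ⟨T', q', h1', h2', c', hc'⟩ := h'
  let Q : T ⨿ T' ⟶ Sk := coprod.desc q q'
  have hl : (coprod.inl : T ⟶ T ⨿ T') ≫ Q = q := coprod.inl_desc _ _
  have hr : (coprod.inr : T' ⟶ T ⨿ T') ≫ Q = q' := coprod.inr_desc _ _
  have hopl := isOpenImmersion_bcT k X Q q coprod.inl hl
  have hopr := isOpenImmersion_bcT k X Q q' coprod.inr hr
  have hcompl : IsCompl (Set.range (coprod.inl : T ⟶ T ⨿ T').base)
      (Set.range (coprod.inr : T' ⟶ T ⨿ T').base) := by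
    have := isCompl_range_inl_inr T T'
    exact this
  have hft : LocallyOfFiniteType Q := by
    rw [IsZariskiLocalAtSource.iff_of_openCover (P := @LocallyOfFiniteType)
      (coprodOpenCover.{u, u} T T')]
    rintro (_ | _)
    · change LocallyOfFiniteType ((coprod.inl : T ⟶ T ⨿ T') ≫ Q)
      rw [hl]; exact h1
    · change LocallyOfFiniteType ((coprod.inr : T' ⟶ T ⨿ T') ≫ Q)
      rw [hr]; exact h1'
  have hT : CompactSpace T := QuasiCompact.compactSpace_of_compactSpace q
  have hT' : CompactSpace T' := QuasiCompact.compactSpace_of_compactSpace q'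
  have huniv : Set.range (coprod.inl : T ⟶ T ⨿ T').base ∪
      Set.range (coprod.inr : T' ⟶ T ⨿ T').base = Set.univ := by
    simpa using hcompl.sup_eq_top
  have hqc : QuasiCompact Q := by
    have : CompactSpace ↥(T ⨿ T') := by
      refine ⟨?_⟩
      rw [← huniv]
      exact (isCompact_range (coprod.inl : T ⟶ T ⨿ T').base.hom.continuous).union
        (isCompact_range (coprod.inr : T' ⟶ T ⨿ T').base.hom.continuous)
    exact (HasAffineProperty.iff_of_isAffine (P := @QuasiCompact)).mpr this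
  obtain ⟨d, hd1, hd2⟩ := Glue2.exists_glue_class (bcT k X Q q coprod.inl hl)
    (bcT k X Q q' coprod.inr hr) (by
      rw [range_bcT, range_bcT]
      exact hcompl.disjoint.preimage _) (by
      intro y
      rw [range_bcT, range_bcT]
      have : (pullback.snd (X ↘ Sk) Q).base y ∈ Set.range (coprod.inl : T ⟶ T ⨿ T').base ∪
          Set.range (coprod.inr : T' ⟶ T ⨿ T').base := by
        rw [huniv]; trivial
      exact this) c c'
  refine ⟨T ⨿ T', Q, hft, hqc, d, ?_⟩
  rintro a (ha | ha)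
  · obtain ⟨t, ht, rfl⟩ := hc a ha
    refine ⟨t ≫ coprod.inl, by rw [Category.assoc, hl, ht], ?_⟩
    rw [← hd1, fibCl_pull_bcT]
  · obtain ⟨t, ht, rfl⟩ := hc' a ha
    refine ⟨t ≫ coprod.inr, by rw [Category.assoc, hr, ht], ?_⟩
    rw [← hd2, fibCl_pull_bcT]

theorem BddPic.finite {A : Set (Pic X)} (h : A.Finite) : BddPic k X A := by
  induction A, h using Set.Finite.induction_on with
  | empty => exact BddPic.empty
  | @insert a s _ _ ih => exact (BddPic.singleton a).union ih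

theorem BddPic.biUnion {ι : Type*} {s : Set ι} (hs : s.Finite) (A : ι → Set (Pic X))
    (h : ∀ i ∈ s, BddPic k X (A i)) : BddPic k X (⋃ i ∈ s, A i) := by
  induction s, hs using Set.Finite.induction_on with
  | empty => exact BddPic.empty.mono (by simp)
  | @insert a s _ _ ih =>
    rw [Set.biUnion_insert]
    exact (h a (Set.mem_insert _ _)).union (ih fun i hi => h i (Set.mem_insert_of_mem _ hi))

theorem BddPic.iUnion {ι : Type*} [Finite ι] (A : ι → Set (Pic X))
    (h : ∀ i, BddPic k X (A i)) : BddPic k X (⋃ i, A i) :=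
  (BddPic.biUnion (Set.finite_univ (α := ι)) A fun i _ => h i).mono (by simp)

end Groth.Agent.Pic13.H138.BddPic
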