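import Groth.Agent.Pic13.H138.BddPic
import Groth.Agent.Sga3C.LocConn
import Mathlib.AlgebraicGeometry.Morphisms.FiniteType

/-!
# Finiteness of the classes of a bounded family modulo algebraic equivalence

* `algEq_of_mem_connectedComponent`: fibres at two `k`-points of one connected component are
  algebraically equivalent.
* `exists_finite`: a bounded set of classes lies in finitely many classes modulo algebraic equivalence
  (`finite_image_mk`: its image in `Pic X ⧸ alg0 k X` is finite).
* `mem_tau0_of_bdd`: if infinitely many powers of `a` form a bounded set then `a ∈ tau0 k X`.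
-/

set_option autoImplicit false
universe u

open CategoryTheory CategoryTheory.Limits AlgebraicGeometry

namespace Groth.Agent.Pic13.H138.Finite

open Groth.Agent.Grpsch.PicGrp Groth.Agent.Pic13.H138.Slice Groth.Agent.Pic13.H138.AlgEquiv
open Groth.Agent.Pic13.H138.BddPic

variable {k : Type u} [Field k]

local notation "Sk" => Spec (CommRingCat.of k)

variable {X : Scheme.{u}} [X.Over (Spec (CommRingCat.of k))]

instance : Subsingleton ↥(Spec (CommRingCat.of k)) := inferInstanceAs (Subsingleton (PrimeSpectrum k))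

/-- The image of the point of `Spec k`. -/
noncomputable def ptOf {T : Scheme.{u}} (t : Sk ⟶ T) : T := t.base (IsLocalRing.closedPoint k)

theorem range_subset_iff {T : Scheme.{u}} (t : Sk ⟶ T) (U : Set T) :
    Set.range t.base ⊆ U ↔ ptOf t ∈ U := by
  constructor
  · intro h; exact h ⟨_, rfl⟩
  · rintro h _ ⟨x, rfl⟩
    rwa [Subsingleton.elim x (IsLocalRing.closedPoint k)]

theorem algEq_of_mem_connectedComponent {T : Scheme.{u}} (q : T ⟶ Sk) [LocallyOfFiniteType q]
    [QuasiCompact q] (c : Pic (Pic13.prodK k X q)) {t t' : Sk ⟶ T} (ht : t ≫ q = 𝟙 _)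
    (ht' : t' ≫ q = 𝟙 _) (h : ptOf t' ∈ connectedComponent (ptOf t)) :
    AlgEq k X (fibCl k X q t ht c) (fibCl k X q t' ht' c) := by
  have : IsLocallyNoetherian T := LocallyOfFiniteType.isLocallyNoetherian q
  have : CompactSpace T := QuasiCompact.compactSpace_of_compactSpace q
  have : IsNoetherian T := {}
  have := Sga3C.LocConn.locallyConnectedSpace_of_isLocallyNoetherian T
  let C : T.Opens := ⟨connectedComponent (ptOf t), isOpen_connectedComponent⟩
  have hC : ConnectedSpace ↥(C : Scheme.{u}) :=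
    isConnected_iff_connectedSpace.mp isConnected_connectedComponent
  have h1 : Set.range t.base ⊆ Set.range C.ι.base := by
    rw [range_subset_iff, Scheme.Opens.range_ι]
    exact mem_connectedComponent
  have h2 : Set.range t'.base ⊆ Set.range C.ι.base := by
    rw [range_subset_iff, Scheme.Opens.range_ι]
    exact h
  let s := IsOpenImmersion.lift C.ι t h1
  let s' := IsOpenImmersion.lift C.ι t' h2
  have hs : s ≫ C.ι = t := IsOpenImmersion.lift_fac _ _ _
  have hs' : s' ≫ C.ι = t' := IsOpenImmersion.lift_fac _ _ _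
  have hsq : s ≫ (C.ι ≫ q) = 𝟙 _ := by rw [reassoc_of% hs, ht]
  have hsq' : s' ≫ (C.ι ≫ q) = 𝟙 _ := by rw [reassoc_of% hs', ht']
  refine ⟨C, C.ι ≫ q, hC, inferInstance, inferInstance,
    pull (bcT k X q (C.ι ≫ q) C.ι rfl) c, s, s', hsq, hsq', ?_, ?_⟩
  · rw [fibCl_pull_bcT, fibCl_congr k X q _ hs]
  · rw [fibCl_pull_bcT, fibCl_congr k X q _ hs']

theorem exists_finite {A : Set (Pic X)} (h : BddPic k X A) :
    ∃ s : Set (Pic X), s.Finite ∧ s ⊆ A ∧ ∀ a ∈ A, ∃ b ∈ s, AlgEq k X b a := by
  classical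
  obtain ⟨T, q, h1, h2, c, hc⟩ := h
  have : IsLocallyNoetherian T := LocallyOfFiniteType.isLocallyNoetherian q
  have : CompactSpace T := QuasiCompact.compactSpace_of_compactSpace q
  have := Sga3C.LocConn.locallyConnectedSpace_of_isLocallyNoetherian T
  choose t ht e using fun a : A => hc a.1 a.2
  let f : A → ConnectedComponents T := fun a => ConnectedComponents.mk (ptOf (t a))
  obtain ⟨s, -, hs⟩ := Set.exists_subset_bijOn (Set.univ : Set A) f
  refine ⟨Subtype.val '' s, Set.Finite.image _ ?_, ?_, ?_⟩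
  · exact Set.Finite.of_finite_image (f := f) (Set.toFinite _) hs.injOn
  · rintro _ ⟨a, -, rfl⟩
    exact a.2
  · intro a ha
    obtain ⟨b, hb, hfb⟩ := hs.surjOn ⟨⟨a, ha⟩, Set.mem_univ _, rfl⟩
    refine ⟨b, ⟨b, hb, rfl⟩, ?_⟩
    have hcc : connectedComponent (ptOf (t b)) = connectedComponent (ptOf (t ⟨a, ha⟩)) :=
      ConnectedComponents.coe_eq_coe.mp hfb
    have := algEq_of_mem_connectedComponent (X := X) q c (ht b) (ht ⟨a, ha⟩)
      (hcc ▸ mem_connectedComponent)
    rwa [e b, e ⟨a, ha⟩] at this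

variable [IsAlgClosed k]

theorem finite_image_mk {A : Set (Pic X)} (h : BddPic k X A) :
    ((fun a : Pic X => (QuotientGroup.mk a : Pic X ⧸ alg0 k X)) '' A).Finite := by
  obtain ⟨s, hs, -, h⟩ := exists_finite h
  refine (hs.image (fun a : Pic X => (QuotientGroup.mk a : Pic X ⧸ alg0 k X))).subset ?_
  rintro _ ⟨a, ha, rfl⟩
  obtain ⟨b, hb, hab⟩ := h a ha
  refine ⟨b, hb, ?_⟩
  rw [algEq_iff_mem] at hab
  rw [QuotientGroup.eq]
  have := inv_mem hab
  rwa [mul_inv, inv_inv] at this

/-- If infinitely many powers of `a` form a bounded set, then `a` is `τ`-equivalent to zero. -/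
theorem mem_tau0_of_bdd_zpow {a : Pic X} {S : Set ℤ} (hS : S.Infinite)
    (h : BddPic k X ((fun n : ℤ => a ^ n) '' S)) : a ∈ tau0 k X := by
  have hfin := finite_image_mk h
  have : ∃ m ∈ S, ∃ n ∈ S, m ≠ n ∧
      (QuotientGroup.mk (a ^ m) : Pic X ⧸ alg0 k X) = QuotientGroup.mk (a ^ n) := by
    by_contra hcon
    push Not at hcon
    refine hS (Set.Finite.of_finite_image
      (f := fun n : ℤ => (QuotientGroup.mk (a ^ n) : Pic X ⧸ alg0 k X)) ?_ ?_)
    · rw [Set.image_image] at hfin
      exact hfin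
    · intro m hm n hn hmn
      by_contra hne
      exact hcon m hm n hn hne hmn
  obtain ⟨m, -, n, -, hmn, e⟩ := this
  rw [QuotientGroup.eq] at e
  refine mem_tau0_of_zpow (m := n) (n := m) (Ne.symm hmn) ?_
  rw [algEq_iff_mem]
  rwa [mul_comm]

theorem mem_tau0_of_bdd_pow {a : Pic X} {S : Set ℕ} (hS : S.Infinite)
    (h : BddPic k X ((fun n : ℕ => a ^ n) '' S)) : a ∈ tau0 k X := by
  refine mem_tau0_of_bdd_zpow (S := (fun n : ℕ => (n : ℤ)) '' S)
    (hS.image (fun _ _ _ _ h => by exact_mod_cast h)) (h.mono ?_)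
  rintro _ ⟨_, ⟨n, hn, rfl⟩, rfl⟩
  exact ⟨n, hn, (zpow_natCast a n).symm⟩

theorem mem_tau0_of_bdd {a : Pic X} (h : BddPic k X (Set.range fun n : ℕ => a ^ n)) :
    a ∈ tau0 k X :=
  mem_tau0_of_bdd_pow (S := Set.univ) Set.infinite_univ (h.mono (Set.image_subset_range _ _))

/-- If a subgroup is contained in a bounded set, it is contained in `tau0`, and its image in
`Pic X ⧸ alg0` is finite. -/
theorem subgroup_le_tau0 {G : Subgroup (Pic X)} (h : BddPic k X (G : Set (Pic X))) :
    G ≤ tau0 k X := fun a ha => mem_tau0_of_bdd (h.mono (by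
  rintro _ ⟨n, rfl⟩
  exact pow_mem ha n))

end Groth.Agent.Pic13.H138.Finite
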