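import Groth.Prelude.Def_Pic13
import Groth.Agent.Grpsch.PicGrp

/-!
# Slices of `X ×_k T`, classes of invertible modules, algebraic equivalence on `Pic X`

* `bcT h : X ×_k T' ⟶ X ×_k T` for `h : T' ⟶ T` over `k`, `prodMap g : X' ×_k T ⟶ X ×_k T` for `g : X' ⟶ X`;
  compatibility with `Pic13.sliceAt`.
* `fibCl t c : Pic X`, the fibre at a `k`-point `t` of a class `c : Pic (X ×_k T)`.
* `AlgEq a b` : algebraic equivalence of classes; `alg0 k X`, the subgroup of classes algebraically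
  equivalent to zero (see `Groth.Agent.Pic13.H138.AlgEquiv`).
-/

set_option autoImplicit false
universe u

open CategoryTheory CategoryTheory.Limits AlgebraicGeometry

namespace Groth.Agent.Pic13.H138.Slice

open Groth.Agent.Grpsch.PicGrp

variable (k : Type u) [Field k]

local notation "Sk" => Spec (CommRingCat.of k)

section

variable (X : Scheme.{u}) [X.Over (Spec (CommRingCat.of k))]

@[reassoc (attr := simp)]
theorem sliceAt_fst {T : Scheme.{u}} (q : T ⟶ Sk) (t : Sk ⟶ T) (ht : t ≫ q = 𝟙 _) :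
    Pic13.sliceAt k X q t ht ≫ pullback.fst _ _ = 𝟙 X := pullback.lift_fst _ _ _

@[reassoc (attr := simp)]
theorem sliceAt_snd {T : Scheme.{u}} (q : T ⟶ Sk) (t : Sk ⟶ T) (ht : t ≫ q = 𝟙 _) :
    Pic13.sliceAt k X q t ht ≫ pullback.snd _ _ = (X ↘ Sk) ≫ t := pullback.lift_snd _ _ _

/-- `X ×_k T' ⟶ X ×_k T`, for `h : T' ⟶ T` over `k`. -/
noncomputable def bcT {T T' : Scheme.{u}} (q : T ⟶ Sk) (q' : T' ⟶ Sk) (h : T' ⟶ T) (hh : h ≫ q = q') :
    Pic13.prodK k X q' ⟶ Pic13.prodK k X q :=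
  pullback.lift (pullback.fst _ _) (pullback.snd _ _ ≫ h) (by
    rw [pullback.condition, Category.assoc, hh])

@[reassoc (attr := simp)]
theorem bcT_fst {T T' : Scheme.{u}} (q : T ⟶ Sk) (q' : T' ⟶ Sk) (h : T' ⟶ T) (hh : h ≫ q = q') :
    bcT k X q q' h hh ≫ pullback.fst _ _ = pullback.fst _ _ := pullback.lift_fst _ _ _

@[reassoc (attr := simp)]
theorem bcT_snd {T T' : Scheme.{u}} (q : T ⟶ Sk) (q' : T' ⟶ Sk) (h : T' ⟶ T) (hh : h ≫ q = q') :
    bcT k X q q' h hh ≫ pullback.snd _ _ = pullback.snd _ _ ≫ h := pullback.lift_snd _ _ _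

theorem isPullback_bcT {T T' : Scheme.{u}} (q : T ⟶ Sk) (q' : T' ⟶ Sk) (h : T' ⟶ T) (hh : h ≫ q = q') :
    IsPullback (bcT k X q q' h hh) (pullback.snd _ _) (pullback.snd _ _) h := by
  refine IsPullback.of_right (h₁₂ := pullback.fst (X ↘ Sk) q) (v₁₃ := X ↘ Sk) (h₂₂ := q) ?_
    (bcT_snd k X q q' h hh) ?_
  · rw [bcT_fst]
    subst hh
    exact IsPullback.of_hasPullback _ _
  · exact IsPullback.of_hasPullback _ _

@[reassoc (attr := simp)]
theorem sliceAt_bcT {T T' : Scheme.{u}} (q : T ⟶ Sk) (q' : T' ⟶ Sk) (h : T' ⟶ T) (hh : h ≫ q = q')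
    (t : Sk ⟶ T') (ht : t ≫ q' = 𝟙 _) :
    Pic13.sliceAt k X q' t ht ≫ bcT k X q q' h hh =
      Pic13.sliceAt k X q (t ≫ h) (by rw [Category.assoc, hh, ht]) := by
  apply pullback.hom_ext
  · rw [Category.assoc, bcT_fst, sliceAt_fst, sliceAt_fst]
  · rw [Category.assoc, bcT_snd, sliceAt_snd, sliceAt_snd_assoc]

end

section

variable {X X' : Scheme.{u}} [X.Over (Spec (CommRingCat.of k))] [X'.Over (Spec (CommRingCat.of k))]

/-- `X' ×_k T ⟶ X ×_k T`, for `g : X' ⟶ X` over `k`. -/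
noncomputable def prodMap (g : X' ⟶ X) (hg : g ≫ (X ↘ Sk) = X' ↘ Sk) {T : Scheme.{u}} (q : T ⟶ Sk) :
    Pic13.prodK k X' q ⟶ Pic13.prodK k X q :=
  pullback.lift (pullback.fst _ _ ≫ g) (pullback.snd _ _) (by
    rw [Category.assoc, hg, pullback.condition])

@[reassoc (attr := simp)]
theorem prodMap_fst (g : X' ⟶ X) (hg : g ≫ (X ↘ Sk) = X' ↘ Sk) {T : Scheme.{u}} (q : T ⟶ Sk) :
    prodMap k g hg q ≫ pullback.fst _ _ = pullback.fst _ _ ≫ g := pullback.lift_fst _ _ _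

@[reassoc (attr := simp)]
theorem prodMap_snd (g : X' ⟶ X) (hg : g ≫ (X ↘ Sk) = X' ↘ Sk) {T : Scheme.{u}} (q : T ⟶ Sk) :
    prodMap k g hg q ≫ pullback.snd _ _ = pullback.snd _ _ := pullback.lift_snd _ _ _

theorem isPullback_prodMap (g : X' ⟶ X) (hg : g ≫ (X ↘ Sk) = X' ↘ Sk) {T : Scheme.{u}} (q : T ⟶ Sk) :
    IsPullback (prodMap k g hg q) (pullback.fst _ _) (pullback.fst _ _) g := by
  refine IsPullback.of_right (h₁₂ := pullback.snd (X ↘ Sk) q) (v₁₃ := q) (h₂₂ := (X ↘ Sk)) ?_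
    (prodMap_fst k g hg q) ?_
  · rw [prodMap_snd]
    rw [hg]
    exact (IsPullback.of_hasPullback _ _).flip
  · exact (IsPullback.of_hasPullback _ _).flip

@[reassoc (attr := simp)]
theorem sliceAt_prodMap (g : X' ⟶ X) (hg : g ≫ (X ↘ Sk) = X' ↘ Sk) {T : Scheme.{u}} (q : T ⟶ Sk)
    (t : Sk ⟶ T) (ht : t ≫ q = 𝟙 _) :
    Pic13.sliceAt k X' q t ht ≫ prodMap k g hg q = g ≫ Pic13.sliceAt k X q t ht := by
  apply pullback.hom_ext
  · rw [Category.assoc, prodMap_fst, sliceAt_fst_assoc, Category.assoc, sliceAt_fst, Category.comp_id]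
  · rw [Category.assoc, prodMap_snd, sliceAt_snd, Category.assoc, sliceAt_snd, ← Category.assoc, hg]

end

section Pic

variable (X : Scheme.{u}) [X.Over (Spec (CommRingCat.of k))]

/-- The fibre at a `k`-point of a class of invertible modules on `X ×_k T`. -/
noncomputable def fibCl {T : Scheme.{u}} (q : T ⟶ Sk) (t : Sk ⟶ T) (ht : t ≫ q = 𝟙 _) :
    Pic (Pic13.prodK k X q) →* Pic X := pull (Pic13.sliceAt k X q t ht)

theorem fibCl_mk {T : Scheme.{u}} (q : T ⟶ Sk) (t : Sk ⟶ T) (ht : t ≫ q = 𝟙 _)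
    {M : (Pic13.prodK k X q).Modules} (hM : PicF.IsInvertible M) :
    ∃ h : PicF.IsInvertible (Pic13.fibreMod k X q t ht M),
      fibCl k X q t ht (mk M hM) = mk (Pic13.fibreMod k X q t ht M) h :=
  ⟨_, rfl⟩

theorem fibCl_pull_fst {T : Scheme.{u}} (q : T ⟶ Sk) (t : Sk ⟶ T) (ht : t ≫ q = 𝟙 _) (a : Pic X) :
    fibCl k X q t ht (pull (pullback.fst _ _) a) = a := by
  rw [fibCl, ← pull_comp, sliceAt_fst, pull_id]

theorem fibCl_pull_bcT {T T' : Scheme.{u}} (q : T ⟶ Sk) (q' : T' ⟶ Sk) (h : T' ⟶ T) (hh : h ≫ q = q')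
    (t : Sk ⟶ T') (ht : t ≫ q' = 𝟙 _) (c : Pic (Pic13.prodK k X q)) :
    fibCl k X q' t ht (pull (bcT k X q q' h hh) c) =
      fibCl k X q (t ≫ h) (by rw [Category.assoc, hh, ht]) c := by
  rw [fibCl, ← pull_comp, sliceAt_bcT, fibCl]

theorem fibCl_congr {T : Scheme.{u}} (q : T ⟶ Sk) {t t' : Sk ⟶ T} (ht : t ≫ q = 𝟙 _)
    (h : t = t') (c : Pic (Pic13.prodK k X q)) :
    fibCl k X q t ht c = fibCl k X q t' (h ▸ ht) c := by
  subst h; rfl

theorem fibCl_pull_prodMap {X' : Scheme.{u}} [X'.Over (Spec (CommRingCat.of k))] (g : X' ⟶ X)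
    (hg : g ≫ (X ↘ Sk) = X' ↘ Sk) {T : Scheme.{u}} (q : T ⟶ Sk)
    (t : Sk ⟶ T) (ht : t ≫ q = 𝟙 _) (c : Pic (Pic13.prodK k X q)) :
    fibCl k X' q t ht (pull (prodMap k g hg q) c) = pull g (fibCl k X q t ht c) := by
  rw [fibCl, ← pull_comp, sliceAt_prodMap, pull_comp, fibCl]

end Pic

end Groth.Agent.Pic13.H138.Slice
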